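import Cfsg.Agent.Omega.EndExtra.RankM22

/-!
# Groups `H` with `F*(H) = 3 . M22` (OMEGA / SQT, end J4; helper189)

`Core L`: `L` is a normal perfect subgroup of `H` with `|Z(L)| = 3`, `L / Z(L) ≅ M22` and `C_H(L) ≤ L`.
Then `C_H(L) = Z(L)`, `|H : L| ≤ 2` (`index_le`), an elementary abelian 2-subgroup of `H` has order at most `2^5`
(`card_le`), and at most `2^4` if it is contained in `L` (`card_le_of_le`).
-/

set_option autoImplicit false

namespace Cfsg.Agent.Omega.EndExtra.CoreM22

open Cfsg Cfsg.Agent.SporadicA.GolayBase Cfsg.Agent.SporadicA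
open Cfsg.Agent.SporadicA.MathieuRecog Cfsg.Agent.J4Type.OuterM22
open Cfsg.Agent.BabyM.DuadGen (duad)
open scoped Pointwise commutatorElement

/-- `L = 3 . M22` is normal in `H` and contains its centraliser. -/
structure Core {H : Type*} [Group H] (L : Subgroup H) : Prop where
  normal : L.Normal
  perf : L ≤ ⁅L, L⁆
  card : Nat.card (Subgroup.center L) = 3
  iso : Spor.IsoM22 (L ⧸ Subgroup.center L)
  cent : Subgroup.centralizer (L : Set H) ≤ L

/-- The homomorphism into the duad stabiliser, without assumption on the index (as `exists_P_of_pi`). -/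
theorem exists_P {C : Type*} [Group C] (M N : Subgroup C) [hMn : M.Normal]
    [hNn : N.Normal] (hNM : N ≤ M)
    (hout : ∀ c : C, (∀ m ∈ M, c * m * c⁻¹ * m⁻¹ ∈ N) → c ∈ M)
    (π : M →* Spor.M22) (hπ : Function.Surjective π) (hker : ∀ m : M, π m = 1 ↔ (m : C) ∈ N) :
    ∃ P : C →* Equiv.Perm GolayPt, P.ker = N ∧ P.range ≤ duad ∧ (∀ c, c ∈ M ↔ P c ∈ Spor.M22) := by
  classical
  -- the automorphism induced by conjugation
  have hconj : ∀ c : C, ∃ α : Spor.M22 ≃* Spor.M22, ∀ m : M,
      α (π m) = π ⟨c * m * c⁻¹, hMn.conj_mem m m.2 c⟩ := by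
    intro c
    let φ : M →* Spor.M22 := π.comp (MulAut.conjNormal c).toMonoidHom
    have hφ : ∀ m : M, φ m = π ⟨c * m * c⁻¹, hMn.conj_mem m m.2 c⟩ := fun m => rfl
    have hφs : Function.Surjective φ := hπ.comp (MulAut.conjNormal c).surjective
    have hk : ∀ m : M, φ m = 1 ↔ π m = 1 := by
      intro m
      rw [hφ, hker, hker]
      constructor
      · intro h
        have := hNn.conj_mem _ h c⁻¹
        simpa [mul_assoc] using this
      · intro h
        exact hNn.conj_mem _ h c
    have hkle : π.ker = φ.ker := by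
      ext m
      rw [MonoidHom.mem_ker, MonoidHom.mem_ker, hk]
    let e1 := QuotientGroup.quotientKerEquivOfSurjective π hπ
    let e2 := QuotientGroup.quotientKerEquivOfSurjective φ hφs
    refine ⟨(e1.symm.trans (QuotientGroup.quotientMulEquivOfEq hkle)).trans e2, fun m => ?_⟩
    have h1 : e1.symm (π m) = QuotientGroup.mk' _ m := by
      rw [MulEquiv.symm_apply_eq]
      rfl
    rw [MulEquiv.trans_apply, MulEquiv.trans_apply, h1]
    rfl
  choose α hα using hconj
  have hP : ∀ c : C, ∃! τ : Equiv.Perm GolayPt, τ ∈ duad ∧ ∀ m : M,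
      (π ⟨c * m * c⁻¹, hMn.conj_mem m m.2 c⟩).1 = τ * (π m).1 * τ⁻¹ := by
    intro c
    obtain ⟨τ, ⟨h1, h2⟩, h3⟩ := aut_M22 (α c)
    refine ⟨τ, ⟨h1, fun m => ?_⟩, ?_⟩
    · rw [← hα, h2]
    · rintro τ' ⟨h4, h5⟩
      apply h3
      refine ⟨h4, fun g => ?_⟩
      obtain ⟨m, rfl⟩ := hπ g
      rw [hα, h5]
  choose P hPm hPu using hP
  have hmulm : ∀ c d : C, P (c * d) = P c * P d := by
    intro c d
    symm
    apply hPu
    refine ⟨mul_mem (hPm c).1 (hPm d).1, fun m => ?_⟩
    have h1 := (hPm c).2 ⟨d * m * d⁻¹, hMn.conj_mem m m.2 d⟩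
    have h2 := (hPm d).2 m
    have h3 : (⟨c * d * m * (c * d)⁻¹, hMn.conj_mem m m.2 (c * d)⟩ : M) =
        ⟨c * (d * m * d⁻¹) * c⁻¹, hMn.conj_mem _ (hMn.conj_mem m m.2 d) c⟩ :=
      Subtype.ext (by group)
    rw [h3]
    rw [h2] at h1
    rw [h1, mul_inv_rev]
    simp only [mul_assoc]
  let P' : C →* Equiv.Perm GolayPt := MonoidHom.mk' P hmulm
  have hPπ : ∀ m : M, P m = (π m).1 := by
    intro m
    symm
    apply hPu
    refine ⟨M22_le_duad (π m).2, fun k => ?_⟩
    have h1 : (⟨(m : C) * k * (m : C)⁻¹, hMn.conj_mem k k.2 m⟩ : M) = m * k * m⁻¹ := rfl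
    rw [h1, map_mul, map_mul, map_inv]
    rfl
  have hkerP : P'.ker = N := by
    ext c
    rw [MonoidHom.mem_ker]
    have hNc : ∀ c, c ∈ N → P c = 1 := by
      intro c hc
      have h1 := hPπ ⟨c, hNM hc⟩
      rw [(hker ⟨c, hNM hc⟩).2 hc] at h1
      exact h1
    constructor
    · intro h
      have h0 : P c = 1 := h
      have hcM : c ∈ M := by
        apply hout
        intro m hm
        have h1 := (hPm c).2 ⟨m, hm⟩
        rw [h0, one_mul, inv_one, mul_one] at h1
        have h2 : π ⟨c * m * c⁻¹, hMn.conj_mem m hm c⟩ = π ⟨m, hm⟩ := Subtype.ext h1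
        have h3 : π (⟨c * m * c⁻¹, hMn.conj_mem m hm c⟩ * ⟨m, hm⟩⁻¹) = 1 := by
          rw [map_mul, map_inv, h2, mul_inv_cancel]
        exact (hker _).1 h3
      have h1 := hPπ ⟨c, hcM⟩
      rw [h0] at h1
      exact (hker ⟨c, hcM⟩).1 (Subtype.ext h1.symm)
    · exact hNc c
  have hrle : P'.range ≤ duad := by
    rintro _ ⟨c, rfl⟩
    exact (hPm c).1
  refine ⟨P', hkerP, hrle, fun c => ⟨fun hc => ?_, fun hc => ?_⟩⟩
  · have h1 : P' c = (π ⟨c, hc⟩).1 := hPπ ⟨c, hc⟩
    rw [h1]
    exact (π ⟨c, hc⟩).2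
  · obtain ⟨m, hm⟩ := hπ ⟨P' c, hc⟩
    have h1 : P' m = P' c := by
      have : P' m = (π m).1 := hPπ m
      rw [this, hm]
    have h2 : (m : C)⁻¹ * c ∈ P'.ker := by
      rw [MonoidHom.mem_ker, map_mul, map_inv, h1, inv_mul_cancel]
    rw [hkerP] at h2
    have h3 := M.mul_mem m.2 (hNM h2)
    rwa [mul_inv_cancel_left] at h3

namespace Core

variable {H : Type*} [Group H] {L : Subgroup H}

/-- an element acting trivially on `L / Z(L)` centralises `L` -/
theorem comm_of (h : Core L) {c : H}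
    (hc : ∀ m ∈ L, c * m * c⁻¹ * m⁻¹ ∈ Subgroup.centralizer (L : Set H)) :
    c ∈ Subgroup.centralizer (L : Set H) := by
  have hn := h.normal
  -- the elements of `L` commuting with `c` contain all commutators
  have key : ⁅L, L⁆ ≤ Subgroup.centralizer ({c} : Set H) := by
    rw [Subgroup.commutator_le]
    intro x hx y hy
    rw [Subgroup.mem_centralizer_singleton_iff]
    have e1 := hc x hx
    have e2 := hc y hy
    rw [Subgroup.mem_centralizer_iff] at e1 e2
    set u := c * x * c⁻¹ * x⁻¹ with hu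
    set v := c * y * c⁻¹ * y⁻¹ with hv
    have hcx : c * x * c⁻¹ = u * x := by rw [hu]; group
    have hcy : c * y * c⁻¹ = v * y := by rw [hv]; group
    have hux : Commute u x := (e1 x hx).symm
    have huy : Commute u y := (e1 y hy).symm
    have hvx : Commute v x := (e2 x hx).symm
    have hvy : Commute v y := (e2 y hy).symm
    have huv : Commute u v := by
      have hvL : v ∈ L := h.cent (hc y hy)
      exact (e1 v hvL).symm
    have h3 : c * ⁅x, y⁆ * c⁻¹ = ⁅x, y⁆ := by
      rw [commutatorElement_def]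
      calc c * (x * y * x⁻¹ * y⁻¹) * c⁻¹
          = (c * x * c⁻¹) * (c * y * c⁻¹) * (c * x * c⁻¹)⁻¹ * (c * y * c⁻¹)⁻¹ := by group
        _ = (u * x) * (v * y) * (u * x)⁻¹ * (v * y)⁻¹ := by rw [hcx, hcy]
        _ = x * y * x⁻¹ * y⁻¹ := by
          have h4 : (u * x) * (v * y) = (u * v) * (x * y) := by
            rw [mul_assoc, ← mul_assoc x v, hvx.symm.eq]; group
          have h5 : (v * y) * (u * x) = (u * v) * (y * x) := by
            rw [mul_assoc, ← mul_assoc y u, huy.symm.eq, huv.eq]; group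
          have h6 : (u * x) * (v * y) * (u * x)⁻¹ * (v * y)⁻¹ = ((u * x) * (v * y)) * ((v * y) * (u * x))⁻¹ := by
            group
          rw [h6, h4, h5]
          have h7 : Commute (u * v) (x * y * (y * x)⁻¹) := by
            have : Commute (u * v) x := hux.mul_left hvx
            have h8 : Commute (u * v) y := huy.mul_left hvy
            exact (this.mul_right h8).mul_right ((h8.mul_right this).inv_right)
          calc (u * v) * (x * y) * ((u * v) * (y * x))⁻¹ = (u * v) * (x * y * (y * x)⁻¹) * (u * v)⁻¹ := by group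
            _ = x * y * (y * x)⁻¹ := by rw [h7.eq]; group
            _ = _ := by group
    calc ⁅x, y⁆ * c = c * ⁅x, y⁆ * c⁻¹ * c := by rw [h3]
      _ = c * ⁅x, y⁆ := by group
  rw [Subgroup.mem_centralizer_iff]
  intro x hx
  exact Subgroup.mem_centralizer_singleton_iff.1 (key (h.perf hx))

theorem mem_center_iff (h : Core L) {x : L} :
    x ∈ Subgroup.center L ↔ (x : H) ∈ Subgroup.centralizer (L : Set H) := by
  rw [Subgroup.mem_center_iff, Subgroup.mem_centralizer_iff]
  constructor
  · intro hx y hy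
    exact congrArg Subtype.val (hx ⟨y, hy⟩)
  · intro hx y
    exact Subtype.ext (hx y y.2)

/-- `|C_H(L)| = 3` -/
theorem card_cent (h : Core L) : Nat.card (Subgroup.centralizer (L : Set H)) = 3 := by
  rw [← h.card]
  refine (Nat.card_congr ?_).symm
  exact
    { toFun := fun x => ⟨x.1.1, h.mem_center_iff.1 x.2⟩
      invFun := fun x => ⟨⟨x.1, h.cent x.2⟩, h.mem_center_iff.2 x.2⟩
      left_inv := fun x => rfl
      right_inv := fun x => rfl }

/-- The action on `M22`. -/
theorem exists_hom (h : Core L) :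
    ∃ P : H →* Equiv.Perm GolayPt, P.ker = Subgroup.centralizer (L : Set H) ∧ P.range ≤ duad ∧
      ∀ c, c ∈ L ↔ P c ∈ Spor.M22 := by
  have hn := h.normal
  obtain ⟨e⟩ := h.iso
  have hnc : (Subgroup.centralizer (L : Set H)).Normal := Subgroup.normal_centralizer
  refine exists_P L (Subgroup.centralizer (L : Set H)) h.cent (fun c hc => h.cent (h.comm_of hc))
    (e.toMonoidHom.comp (QuotientGroup.mk' (Subgroup.center L)))
    (e.surjective.comp (QuotientGroup.mk'_surjective _)) (fun m => ?_)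
  change e (QuotientGroup.mk' _ m) = 1 ↔ _
  rw [map_eq_one_iff e e.injective]
  exact (QuotientGroup.eq_one_iff m).trans h.mem_center_iff

/-- `|H : L| ≤ 2`. -/
theorem index_le (h : Core L) : L.index ≤ 2 := by
  obtain ⟨P, -, h2, h3⟩ := h.exists_hom
  have h4 : L = Spor.M22.comap P := by
    ext c
    rw [h3, Subgroup.mem_comap]
  rw [h4, Subgroup.index_comap]
  have h5 := Subgroup.relIndex_le_of_le_right (H := Spor.M22) h2 (by rw [RankM22.relIndex_duad]; norm_num)
  rwa [RankM22.relIndex_duad] at h5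

theorem card_map_hom (h : Core L) {P : H →* Equiv.Perm GolayPt}
    (hP : P.ker = Subgroup.centralizer (L : Set H)) {X : Subgroup H} (hX : ∀ x ∈ X, x * x = 1) :
    Nat.card (X.map P) = Nat.card X := by
  have hinj : Function.Injective (P.comp X.subtype) := by
    rw [injective_iff_map_eq_one]
    intro x hx
    have h1 : (x : H) ∈ Subgroup.centralizer (L : Set H) := by
      rw [← hP]; exact hx
    have h2 : (⟨x, h1⟩ : Subgroup.centralizer (L : Set H)) ^ 3 = 1 := by
      rw [← h.card_cent]; exact pow_card_eq_one'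
    have h3 : (x : H) * x * x = 1 := by
      have := congrArg Subtype.val h2
      simpa [pow_succ] using this
    rw [hX x x.2, one_mul] at h3
    exact Subtype.ext h3
  have h1 : (P.comp X.subtype).range = X.map P := by
    rw [MonoidHom.range_comp, Subgroup.range_subtype]
  rw [← h1]
  exact (Nat.card_congr (MonoidHom.ofInjective hinj).toEquiv).symm

/-- Elementary abelian 2-subgroups of `H` have order at most `2^5`. -/
theorem card_le (h : Core L) {X : Subgroup H} (hX : ∀ x ∈ X, x * x = 1) : Nat.card X ≤ 2 ^ 5 := by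
  obtain ⟨P, h1, h2, -⟩ := h.exists_hom
  rw [← h.card_map_hom h1 hX]
  refine RankM22.card_le_duad ?_ ?_
  · exact (Subgroup.map_le_range P X).trans h2
  · rintro _ ⟨x, hx, rfl⟩
    rw [← map_mul, hX x hx, map_one]

/-- Elementary abelian 2-subgroups of `L` have order at most `2^4`. -/
theorem card_le_of_le (h : Core L) {X : Subgroup H} (hX : ∀ x ∈ X, x * x = 1) (hXL : X ≤ L) :
    Nat.card X ≤ 2 ^ 4 := by
  obtain ⟨P, h1, -, h3⟩ := h.exists_hom
  rw [← h.card_map_hom h1 hX]
  refine RankM22.card_le ?_ ?_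
  · rintro _ ⟨x, hx, rfl⟩
    exact (h3 x).1 (hXL hx)
  · rintro _ ⟨x, hx, rfl⟩
    rw [← map_mul, hX x hx, map_one]

end Core

end Cfsg.Agent.Omega.EndExtra.CoreM22
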