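import Cfsg.Agent.Omega.EndExtra.CoreM22
import Cfsg.Agent.LargeExtra.Perp
import Cfsg.Agent.J4Type.Base
import Cfsg.Agent.J2.ExtQuot

/-!
# OMEGA / SQT, II.a `q = 2`, end J4: the hypotheses of S1670 (helper189)

Input (`hyp`): a pair (`z` is not weakly closed in `Q`, `Q` large extraspecial in `C(z)`), `|Q| = 2^13`, and `C(z)/Q` has a
normal subgroup `3 . M22` containing its centraliser (`CoreM22.Core`).  Output: `J4Type.Hyp`, that is the hypotheses of
S1670 (`|H : L| = 2`, because the image of `C_A(z)` has order `≥ 2^5 > m_2(M22)`; `Q` of plus type, because this image has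
order `≤ 2^5`).
-/

set_option autoImplicit false

namespace Cfsg.Agent.Omega.EndExtra.J4Hyp

open Cfsg Cfsg.Agent.Co2Type.Quad Cfsg.Agent.LargeExtra Cfsg.Agent.LargeExtra.Base
open Cfsg.Agent.Omega.EndExtra.CoreM22
open scoped commutatorElement

/-- Two homomorphisms with the same kernel have images of the same order. -/
theorem card_range_eq {A B C : Type*} [Group A] [Group B] [Group C] (f : A →* B) (g : A →* C)
    (h : f.ker = g.ker) : Nat.card f.range = Nat.card g.range :=
  Nat.card_congr (((QuotientGroup.quotientKerEquivRange f).symm.trans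
    (QuotientGroup.quotientMulEquivOfEq h)).trans (QuotientGroup.quotientKerEquivRange g)).toEquiv

section Large

variable {G : Type*} [Group G] {Q : Subgroup G} {z : G}

theorem le_cent (h : Large Q z) : Q ≤ Subgroup.centralizer ({z} : Set G) := fun x hx =>
  Subgroup.mem_centralizer_singleton_iff.2 (h.comm_z x hx)

theorem normal_subgroupOf (h : Large Q z) : (Q.subgroupOf (Subgroup.centralizer ({z} : Set G))).Normal :=
  ⟨fun x hx c => h.conj_mem c (Subgroup.mem_centralizer_singleton_iff.1 c.2) x hx⟩

theorem isExtraspecial [Finite Q] (h : Large Q z) (h4 : 2 < Nat.card Q) :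
    Cfsg.IsExtraspecial 2 (Q.subgroupOf (Subgroup.centralizer ({z} : Set G))) := by
  have e := Subgroup.subgroupOfEquivOfLe (le_cent h)
  refine Cfsg.Agent.J2.ExtQuot.isExtraspecial_of_equiv e.symm ?_
  refine Cfsg.Agent.J2.ExtQuot.isExtraspecial_two (Base.isPGroup h) h.card_center ?_ ?_
  · intro x
    rw [pow_two]
    exact h.sq_mem x
  · by_contra hno
    push Not at hno
    have h1 : Subgroup.center Q = ⊤ := by
      rw [Subgroup.eq_top_iff']
      intro x
      rw [Subgroup.mem_center_iff]
      exact fun y => hno y x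
    have h2 := h.card_center
    rw [h1, Subgroup.card_top] at h2
    omega

theorem centralizer_le (h : Large Q z) :
    Subgroup.centralizer ((Q.subgroupOf (Subgroup.centralizer ({z} : Set G)) :
      Subgroup (Subgroup.centralizer ({z} : Set G))) : Set (Subgroup.centralizer ({z} : Set G))) ≤
      Q.subgroupOf (Subgroup.centralizer ({z} : Set G)) := by
  intro c hc
  rw [Subgroup.mem_subgroupOf]
  refine h.self c (Subgroup.mem_centralizer_singleton_iff.1 c.2) ?_
  intro x hx
  have h1 := Subgroup.mem_centralizer_iff.1 hc ⟨x, le_cent h hx⟩ (by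
    show (⟨x, le_cent h hx⟩ : Subgroup.centralizer ({z} : Set G)) ∈ Q.subgroupOf _
    rw [Subgroup.mem_subgroupOf]; exact hx)
  exact (congrArg Subtype.val h1).symm

end Large

section Pair

variable {G : Type*} [Group G] {Q A : Subgroup G} {z a : G} (p : Pair Q z A a)
  {H : Type*} [Group H] {π : Subgroup.centralizer ({z} : Set G) →* H}
  (hk : π.ker = Q.subgroupOf (Subgroup.centralizer ({z} : Set G)))

/-- the image of `C_A(z)` in `H = C(z) / Q` -/
def im (A : Subgroup G) (π : Subgroup.centralizer ({z} : Set G) →* H) : Subgroup H :=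
  (A.subgroupOf (Subgroup.centralizer ({z} : Set G))).map π

include p hk

theorem im_sq {x : H} (hx : x ∈ im A π) : x * x = 1 := by
  obtain ⟨c, hc, rfl⟩ := hx
  rw [← map_mul]
  show c * c ∈ π.ker
  rw [hk, Subgroup.mem_subgroupOf]
  rcases p.la.sq c hc with h1 | h1
  · show (c : G) * c ∈ Q
    rw [h1]; exact Q.one_mem
  · show (c : G) * c ∈ Q
    rw [h1]; exact p.a_mem

theorem card_im [Finite G] : Nat.card (im A π) * Nat.card ↥(A ⊓ Q) * 2 = Nat.card Q := by
  have h0 : Nat.card (im A π) = Nat.card p.X := by
    have e1 : im A π = (π.comp (A.subgroupOf (Subgroup.centralizer ({z} : Set G))).subtype).range := by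
      rw [MonoidHom.range_comp, Subgroup.range_subtype]; rfl
    have e2 : p.X = (p.lz.act.comp (A.subgroupOf (Subgroup.centralizer ({z} : Set G))).subtype).range := by
      rw [MonoidHom.range_comp, Subgroup.range_subtype]
      ext f
      rw [p.mem_X]
      rfl
    rw [e1, e2]
    apply card_range_eq
    ext c
    rw [MonoidHom.mem_ker, MonoidHom.mem_ker, MonoidHom.comp_apply, MonoidHom.comp_apply, ← MonoidHom.mem_ker, hk,
      Subgroup.mem_subgroupOf]
    exact ⟨fun h => p.lz.act_mem _ h, fun h => p.lz.mem_of_act _ h⟩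
  have h1 := p.card_X
  have h2 := Local.card_sub p.lz p.z_mem
  have h3 : Nat.card (Local.sub p.lz A) = Nat.card p.D := rfl
  rw [h0, h2, h3, p.lz.card_eq, ← h1]
  ring

omit hk in
theorem card_D_sq [Finite G] : Nat.card ↥(A ⊓ Q) * Nat.card ↥(A ⊓ Q) ≤ 2 * Nat.card Q := by
  have h2 := Local.card_sub p.lz p.z_mem
  have h4 := Perp.card_sq_le p.lz (Local.sub p.lz A) fun v hv w hw => p.b_D hv hw
  rw [h2, p.lz.card_eq]
  calc _ = 4 * (Nat.card (Local.sub p.lz A) * Nat.card (Local.sub p.lz A)) := by ring
    _ ≤ 4 * Nat.card p.lz.V := Nat.mul_le_mul_left _ h4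
    _ = _ := by ring

end Pair

/-- **The hypotheses of S1670.** -/
theorem hyp {G : Type*} [Group G] [Finite G] {Q A : Subgroup G} {z a : G} (p : Pair Q z A a)
    (hcard : Nat.card Q = 2 ^ 13)
    {H : Type*} [Group H] (π : Subgroup.centralizer ({z} : Set G) →* H) (hπ : Function.Surjective π)
    (hk : π.ker = Q.subgroupOf (Subgroup.centralizer ({z} : Set G))) {L : Subgroup H} (hL : Core L) :
    ∃ N M, Cfsg.Agent.J4Type.Hyp z (Q.subgroupOf (Subgroup.centralizer ({z} : Set G))) N M := by
  have hQn := normal_subgroupOf p.lz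
  have hLn := hL.normal
  have hZn : (Subgroup.centralizer (L : Set H)).Normal := Subgroup.normal_centralizer
  have hcQ : Nat.card (Q.subgroupOf (Subgroup.centralizer ({z} : Set G))) = 2 ^ 13 := by
    rw [Nat.card_congr (Subgroup.subgroupOfEquivOfLe (le_cent p.lz)).toEquiv, hcard]
  have hHf : Finite H := Finite.of_surjective π hπ
  -- the orders
  have h1 := card_im p hk
  have h2 := card_D_sq p
  have h3 := hL.card_le (X := im A π) fun x hx => im_sq p hk hx
  rw [hcard] at h1 h2
  have hD : Nat.card ↥(A ⊓ Q) = 2 ^ 7 := by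
    have h4 : Nat.card ↥(A ⊓ Q) ≤ 2 ^ 7 := by
      by_contra hlt
      have : 2 ^ 7 * 2 ^ 7 < Nat.card ↥(A ⊓ Q) * Nat.card ↥(A ⊓ Q) := by nlinarith
      omega
    have h5 : 2 ^ 7 ≤ Nat.card ↥(A ⊓ Q) := by
      by_contra hlt
      push Not at hlt
      have : Nat.card (im A π) * Nat.card ↥(A ⊓ Q) ≤ 2 ^ 5 * (2 ^ 7 - 1) :=
        Nat.mul_le_mul h3 (by omega)
      omega
    omega
  have hX : Nat.card (im A π) = 2 ^ 5 := by
    rw [hD] at h1
    omega
  have hidx : L.index = 2 := by
    have h6 := hL.index_le
    have h7 : L.index ≠ 0 := Subgroup.index_ne_zero_of_finite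
    have h8 : L.index ≠ 1 := by
      intro h9
      rw [Subgroup.index_eq_one] at h9
      have h10 := hL.card_le_of_le (X := im A π) (fun x hx => im_sq p hk hx) (by rw [h9]; exact le_top)
      rw [hX] at h10
      norm_num at h10
    omega
  refine ⟨(Subgroup.centralizer (L : Set H)).comap π, L.comap π, ?_⟩
  have hmap : ∀ K : Subgroup H, (K.comap π).map π = K := fun K => Subgroup.map_comap_eq_self_of_surjective hπ K
  exact
    { ht := orderOf_z p.lz
      Qn := hQn
      Nn := inferInstance
      Mn := inferInstance
      QN := by rw [← hk]; exact Subgroup.ker_le_comap _ _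
      NM := Subgroup.comap_mono hL.cent
      index_M := by rw [Subgroup.index_comap_of_surjective _ hπ, hidx]
      extra := isExtraspecial p.lz (by rw [hcard]; norm_num)
      card_Q := hcQ
      plus := by
        refine ⟨(A.subgroupOf (Subgroup.centralizer ({z} : Set G))).subgroupOf
          (Q.subgroupOf (Subgroup.centralizer ({z} : Set G))), ⟨⟨⟨?_⟩⟩, ?_⟩, ?_⟩
        · rintro ⟨x, hx⟩ ⟨y, hy⟩
          exact Subtype.ext (Subtype.ext (Subtype.ext (p.comm_D x.2 hx y.2 hy)))
        · intro x hx
          rw [pow_two]
          exact Subtype.ext (Subtype.ext (p.sq_D x.2 hx))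
        · rw [← hD]
          refine Nat.card_congr ?_
          exact
            { toFun := fun x => ⟨x.1.1.1, x.2, x.1.2⟩
              invFun := fun x => ⟨⟨⟨x.1, le_cent p.lz x.2.2⟩, x.2.2⟩, x.2.1⟩
              left_inv := fun x => rfl
              right_inv := fun x => rfl }
      card_N := by
        have h4 := Subgroup.card_mul_index (π.comp ((Subgroup.centralizer (L : Set H)).comap π).subtype).ker
        have h5 : (π.comp ((Subgroup.centralizer (L : Set H)).comap π).subtype).range = Subgroup.centralizer (L : Set H) := by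
          rw [MonoidHom.range_comp, Subgroup.range_subtype, hmap]
        have h6 : Nat.card (π.comp ((Subgroup.centralizer (L : Set H)).comap π).subtype).ker =
            Nat.card (Q.subgroupOf (Subgroup.centralizer ({z} : Set G))) := by
          have h7 : (π.comp ((Subgroup.centralizer (L : Set H)).comap π).subtype).ker =
              (Q.subgroupOf (Subgroup.centralizer ({z} : Set G))).subgroupOf
                ((Subgroup.centralizer (L : Set H)).comap π) := by
            ext x
            rw [Subgroup.mem_subgroupOf, ← hk]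
            exact Iff.rfl
          rw [h7]
          exact Nat.card_congr (Subgroup.subgroupOfEquivOfLe (by rw [← hk]; exact Subgroup.ker_le_comap _ _)).toEquiv
        rw [Subgroup.index_ker, h5, h6, hL.card_cent] at h4
        rw [← h4, mul_comm]
      cent := by
        rw [Subgroup.commutator_le]
        intro x hx y hy
        rw [← hk, MonoidHom.mem_ker, map_commutatorElement, commutatorElement_eq_one_iff_mul_comm]
        exact Subgroup.mem_centralizer_iff.1 hy _ hx
      perf := by
        intro x hx
        have h4 : π x ∈ (⁅L.comap π, L.comap π⁆).map π := by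
          rw [Subgroup.map_commutator, hmap]
          exact hL.perf hx
        obtain ⟨y, hy, hyx⟩ := h4
        have h5 : y⁻¹ * x ∈ Q.subgroupOf (Subgroup.centralizer ({z} : Set G)) := by
          rw [← hk, MonoidHom.mem_ker, map_mul, map_inv, hyx, inv_mul_cancel]
        have h6 := Subgroup.mul_mem_sup hy h5
        rwa [mul_inv_cancel_left] at h6
      self := centralizer_le p.lz
      out := by
        intro c hc
        refine hL.cent (hL.comm_of ?_)
        intro m hm
        obtain ⟨m', rfl⟩ := hπ m
        have := hc m' hm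
        rw [Subgroup.mem_comap, map_mul, map_mul, map_mul, map_inv, map_inv] at this
        exact this
      pi := by
        obtain ⟨e⟩ := hL.iso
        refine ⟨(e.toMonoidHom.comp (QuotientGroup.mk' (Subgroup.center L))).comp (π.subgroupComap L),
          (e.surjective.comp (QuotientGroup.mk'_surjective _)).comp
            (MonoidHom.subgroupComap_surjective_of_surjective _ _ hπ), fun m => ?_⟩
        show e (QuotientGroup.mk' _ _) = 1 ↔ _
        rw [map_eq_one_iff e e.injective]
        exact (QuotientGroup.eq_one_iff _).trans hL.mem_center_iff }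

end Cfsg.Agent.Omega.EndExtra.J4Hyp
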