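import Cfsg.Agent.J4Type.OuterM22
import Cfsg.Agent.OddHalf.Small.M2223

/-!
# The 2-rank of `M22` and of `M22 : 2` (OMEGA / SQT, end J4; helper189)

* `card_dvd`: an elementary abelian 2-subgroup of `M24` all of whose elements fix a common point has order dividing `16`
  (Burnside: `24 + 8 (|E| - 1)` is divisible by `|E|`);
* `card_le`: elementary abelian 2-subgroups of `M22` have order at most `2^4`;
* `card_le_duad`: elementary abelian 2-subgroups of the duad stabiliser (`Aut M22`) have order at most `2^5`.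
-/

set_option autoImplicit false

namespace Cfsg.Agent.Omega.EndExtra.RankM22

open Cfsg Cfsg.Agent.SporadicA.GolayBase Cfsg.Agent.SporadicA Cfsg.Agent.J4.M24InvolData
open Cfsg.Agent.SporadicA.MathieuRecog
open scoped Pointwise

/-- An elementary abelian 2-subgroup of `M24` with a common fixed point has order dividing `16`. -/
theorem card_dvd {E : Subgroup (Equiv.Perm GolayPt)} (hE : E ≤ M24) (h2 : ∀ x ∈ E, x * x = 1) {p : GolayPt}
    (hp : ∀ x ∈ E, x p = p) : Nat.card E ∣ 16 := by
  classical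
  have : Fintype E := Fintype.ofFinite E
  have hfix : ∀ x : E, x ≠ 1 → Fintype.card (MulAction.fixedBy GolayPt x) = 8 := by
    intro x hx
    obtain ⟨g, hg, hq⟩ := Cfsg.Agent.OddHalf.Small.M2223.fix_octad (hE x.2) (h2 x x.2)
      (fun h => hx (Subtype.ext h)) (hp x x.2)
    have h1 : (g • fin octMask).card = 8 := by
      refine octad_card ((GolayPerm.smul_mem_octads hg).2 ?_)
      exact Cfsg.Agent.J4.M24Invol.octMask_mem
    rw [← h1, ← Fintype.card_coe]
    exact Fintype.card_congr (Equiv.subtypeEquivRight fun q => by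
      rw [MulAction.mem_fixedBy]
      exact hq q)
  have h24 : Fintype.card (MulAction.fixedBy GolayPt (1 : E)) = 24 := by
    have h1 : Fintype.card (MulAction.fixedBy GolayPt (1 : E)) = Fintype.card GolayPt :=
      Fintype.card_congr (Equiv.subtypeUnivEquiv fun q => by
        rw [MulAction.mem_fixedBy, one_smul])
    rw [h1]
    rfl
  have hb := MulAction.sum_card_fixedBy_eq_card_orbits_mul_card_group E GolayPt
  rw [← Finset.add_sum_erase _ _ (Finset.mem_univ (1 : E)), h24,
    Finset.sum_congr rfl (fun x hx => hfix x (Finset.ne_of_mem_erase hx)), Finset.sum_const,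
    Finset.card_erase_of_mem (Finset.mem_univ _), Finset.card_univ, smul_eq_mul] at hb
  have hpos : 0 < Fintype.card E := Fintype.card_pos
  rw [Nat.card_eq_fintype_card]
  have h3 : 16 + 8 * Fintype.card E = Fintype.card (Quotient (MulAction.orbitRel E GolayPt)) * Fintype.card E := by
    rw [← hb]
    omega
  have h4 : Fintype.card E ∣ 16 + 8 * Fintype.card E := ⟨_, h3.trans (Nat.mul_comm _ _)⟩
  exact (Nat.dvd_add_left (Dvd.intro_left 8 rfl)).1 h4

/-- Elementary abelian 2-subgroups of `M22` have order at most `2^4`. -/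
theorem card_le {E : Subgroup (Equiv.Perm GolayPt)} (hE : E ≤ Spor.M22) (h2 : ∀ x ∈ E, x * x = 1) :
    Nat.card E ≤ 2 ^ 4 :=
  Nat.le_of_dvd (by norm_num) (card_dvd (p := none) (fun x hx => ((mem_M22_iff x).1 (hE hx)).1) h2
    fun x hx => ((mem_M22_iff x).1 (hE hx)).2.1)

/-- `|Aut M22 : M22| = 2`. -/
theorem relIndex_duad : Spor.M22.relIndex Cfsg.Agent.BabyM.DuadGen.duad = 2 := by
  have h1 := Subgroup.card_mul_index (Spor.M22.subgroupOf Cfsg.Agent.BabyM.DuadGen.duad)
  rw [Nat.card_congr (Subgroup.subgroupOfEquivOfLe Cfsg.Agent.J4Type.OuterM22.M22_le_duad).toEquiv,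
    card_M22, Cfsg.Agent.BabyM.DuadGen.card_duad] at h1
  have h2 : Spor.M22.relIndex Cfsg.Agent.BabyM.DuadGen.duad =
      (Spor.M22.subgroupOf Cfsg.Agent.BabyM.DuadGen.duad).index := rfl
  rw [h2]
  omega

/-- Elementary abelian 2-subgroups of the duad stabiliser `Aut M22` have order at most `2^5`. -/
theorem card_le_duad {E : Subgroup (Equiv.Perm GolayPt)} (hE : E ≤ Cfsg.Agent.BabyM.DuadGen.duad)
    (h2 : ∀ x ∈ E, x * x = 1) : Nat.card E ≤ 2 ^ 5 := by
  have h1 := Subgroup.relIndex_le_of_le_right (H := Spor.M22) hE (by rw [relIndex_duad]; norm_num)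
  rw [relIndex_duad] at h1
  have h3 := Subgroup.card_mul_index (Spor.M22.subgroupOf E)
  have h4 : Nat.card (Spor.M22.subgroupOf E) = Nat.card ↥(Spor.M22 ⊓ E) := by
    rw [← Subgroup.inf_subgroupOf_right]
    exact Nat.card_congr (Subgroup.subgroupOfEquivOfLe inf_le_right).toEquiv
  have h5 : Nat.card ↥(Spor.M22 ⊓ E) ≤ 2 ^ 4 := card_le inf_le_left fun x hx => h2 x hx.2
  rw [h4] at h3
  rw [← h3]
  calc _ ≤ 2 ^ 4 * 2 := Nat.mul_le_mul h5 h1
    _ = 2 ^ 5 := by norm_num

end Cfsg.Agent.Omega.EndExtra.RankM22
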